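import Groth.Agent.BiextChow.HomologyElem
import Mathlib.Algebra.Homology.Homotopy
import Mathlib.Algebra.Homology.QuasiIso
import Mathlib.Algebra.Module.Projective
import Mathlib.LinearAlgebra.FreeModule.Basic

/-!
Short exact sequences of chain complexes of modules `A' → A → A''` in which the first map is a
quasi-isomorphism and `A''` consists of projectives: contracting homotopy of `A''`, chain-level
section, retraction, and homotopy uniqueness of retractions.
-/

universe u v
open CategoryTheory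

namespace BiextChow

variable {R : Type u} [Ring R]

lemma d_apply_d (C : ChainComplex (ModuleCat.{v} R) ℕ) (i j k : ℕ) (x : C.X i) :
    (C.d j k).hom ((C.d i j).hom x) = 0 :=
  congrArg (fun φ => φ.hom x) (C.d_comp_d i j k)

lemma f_apply_d {C D : ChainComplex (ModuleCat.{v} R) ℕ} (f : C ⟶ D) (i j : ℕ) (x : C.X i) :
    (D.d i j).hom ((f.f i).hom x) = (f.f j).hom ((C.d i j).hom x) :=
  congrArg (fun φ => φ.hom x) (f.comm i j)

section Contraction

variable (Q : ChainComplex (ModuleCat.{v} R) ℕ) [∀ q, Module.Projective R (Q.X q)]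
  (h0 : Function.Surjective (Q.d 1 0).hom)
  (hex : ∀ q (x : Q.X (q + 1)), (Q.d (q + 1) q).hom x = 0 →
    ∃ y, (Q.d (q + 2) (q + 1)).hom y = x)

/-- Inductive construction of a contracting homotopy. -/
noncomputable def contractAux :
    ∀ q : ℕ, {s : Q.X q →ₗ[R] Q.X (q + 1) //
      ∀ x, (Q.d (q + 1) q).hom (s ((Q.d (q + 1) q).hom x)) = (Q.d (q + 1) q).hom x}
  | 0 =>
    ⟨(Module.projective_lifting_property (Q.d 1 0).hom LinearMap.id h0).choose, fun _ =>
      LinearMap.congr_fun (Module.projective_lifting_property (Q.d 1 0).hom LinearMap.id h0).choose_spec _⟩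
  | q + 1 =>
    let s := contractAux q
    let t : Q.X (q + 1) →ₗ[R] Q.X (q + 1) := LinearMap.id - s.1 ∘ₗ (Q.d (q + 1) q).hom
    have ht : ∀ x, t x ∈ LinearMap.range (Q.d (q + 2) (q + 1)).hom := fun x =>
      hex q _ (by simp [t, s.2 x])
    have hl := Module.projective_lifting_property (Q.d (q + 2) (q + 1)).hom.rangeRestrict
      (t.codRestrict _ ht) (LinearMap.surjective_rangeRestrict _)
    ⟨hl.choose, fun x => by
      have := congrArg Subtype.val (LinearMap.congr_fun hl.choose_spec ((Q.d (q + 2) (q + 1)).hom x))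
      simpa [t, d_apply_d] using this⟩

/-- The contracting homotopy of an exact bounded below complex of projectives. -/
noncomputable def contract (q : ℕ) : Q.X q →ₗ[R] Q.X (q + 1) := (contractAux Q h0 hex q).1

lemma contract_zero (x : Q.X 0) : (Q.d 1 0).hom (contract Q h0 hex 0 x) = x :=
  LinearMap.congr_fun (Module.projective_lifting_property (Q.d 1 0).hom LinearMap.id h0).choose_spec x

lemma contract_succ (q : ℕ) (x : Q.X (q + 1)) :
    (Q.d (q + 2) (q + 1)).hom (contract Q h0 hex (q + 1) x) +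
      contract Q h0 hex q ((Q.d (q + 1) q).hom x) = x := by
  let s := contractAux Q h0 hex q
  let t : Q.X (q + 1) →ₗ[R] Q.X (q + 1) := LinearMap.id - s.1 ∘ₗ (Q.d (q + 1) q).hom
  have ht : ∀ x, t x ∈ LinearMap.range (Q.d (q + 2) (q + 1)).hom := fun x =>
    hex q _ (by simp [t, s.2 x])
  have hl := Module.projective_lifting_property (Q.d (q + 2) (q + 1)).hom.rangeRestrict
    (t.codRestrict _ ht) (LinearMap.surjective_rangeRestrict _)
  have := congrArg Subtype.val (LinearMap.congr_fun hl.choose_spec x)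
  change (Q.d (q + 2) (q + 1)).hom (hl.choose x) = t x at this
  change (Q.d (q + 2) (q + 1)).hom (hl.choose x) + s.1 ((Q.d (q + 1) q).hom x) = x
  rw [this]; simp [t]

end Contraction

section ShortExact

variable {A' A A'' : ChainComplex (ModuleCat.{v} R) ℕ} (f : A' ⟶ A) (p : A ⟶ A'')
  (hf : ∀ q, Function.Injective (f.f q).hom) (hp : ∀ q, Function.Surjective (p.f q).hom)
  (hfp : ∀ q, Function.Exact (f.f q).hom (p.f q).hom)

include hp hfp in
lemma surjective_d_of_quasiIso [QuasiIso f] : Function.Surjective (A''.d 1 0).hom := by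
  intro c
  obtain ⟨a, rfl⟩ := hp 0 c
  obtain ⟨x, w, hw⟩ := (epi_homologyMap_zero_iff f).1 inferInstance a
  refine ⟨(p.f 1).hom w, ?_⟩
  rw [f_apply_d, ← hw, map_add, (hfp 0).apply_apply_eq_zero, zero_add]

include hf hp hfp in
lemma exists_d_eq_of_quasiIso [QuasiIso f] (q : ℕ) (c : A''.X (q + 1))
    (hc : (A''.d (q + 1) q).hom c = 0) : ∃ y, (A''.d (q + 2) (q + 1)).hom y = c := by
  obtain ⟨a, rfl⟩ := hp _ c
  rw [f_apply_d] at hc
  obtain ⟨a', ha'⟩ := (hfp q _).1 hc
  obtain ⟨b', hb'⟩ : ∃ b', (A'.d (q + 1) q).hom b' = a' := by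
    have hcyc : (A'.d q ((ComplexShape.down ℕ).next q)).hom a' = 0 :=
      hf _ (by rw [← f_apply_d, ha', d_apply_d, map_zero])
    exact (mono_homologyMap_chain_iff f (q + 1) q _ (by simp) rfl).1 inferInstance a' hcyc
      ⟨a, ha'.symm⟩
  obtain ⟨x, -, w, hw⟩ := (epi_homologyMap_chain_iff f (q + 2) (q + 1) q (by simp) (by simp)).1
    inferInstance (a - (f.f (q + 1)).hom b')
    (by rw [map_sub, f_apply_d f, hb', ha', sub_self])
  refine ⟨(p.f _).hom w, ?_⟩
  have := congrArg (p.f (q + 1)).hom hw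
  rw [map_sub, map_add, (hfp _).apply_apply_eq_zero, (hfp _).apply_apply_eq_zero, zero_add,
    sub_zero] at this
  rw [f_apply_d, this]

variable [∀ q, Module.Projective R (A''.X q)] [QuasiIso f]

include hf hp hfp in
/-- A chain-level section of `p`. -/
theorem exists_chain_section : ∃ h : A'' ⟶ A, h ≫ p = 𝟙 A'' := by
  have h0 := surjective_d_of_quasiIso f p hp hfp
  have hex := exists_d_eq_of_quasiIso f p hf hp hfp
  let s := contract A'' h0 hex
  choose σ hσ using fun q => Module.projective_lifting_property (p.f q).hom LinearMap.id (hp q)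
  replace hσ : ∀ q x, (p.f q).hom (σ q x) = x := fun q x => LinearMap.congr_fun (hσ q) x
  let h : ∀ q, A''.X q →ₗ[R] A.X q := fun
    | 0 => (A.d 1 0).hom ∘ₗ σ 1 ∘ₗ s 0
    | q + 1 => (A.d (q + 2) (q + 1)).hom ∘ₗ σ (q + 2) ∘ₗ s (q + 1) +
        σ (q + 1) ∘ₗ s q ∘ₗ (A''.d (q + 1) q).hom
  have hd : ∀ q x, (A.d (q + 1) q).hom (h (q + 1) x) = h q ((A''.d (q + 1) q).hom x) := by
    rintro (_ | q) x
    · simp [h, d_apply_d]
    · simp [h, d_apply_d]
  refine ⟨{ f := fun q => ModuleCat.ofHom (h q)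
            comm' := ?_ }, ?_⟩
  · rintro i j (rfl : j + 1 = i)
    ext x
    exact hd j x
  · ext q x
    change (p.f q).hom (h q x) = x
    match q with
    | 0 => simp only [h, LinearMap.comp_apply]; rw [← f_apply_d, hσ, contract_zero]
    | q + 1 =>
      simp only [h, LinearMap.add_apply, LinearMap.comp_apply, map_add]
      rw [← f_apply_d, hσ, hσ, contract_succ]

include hf hp hfp in
/-- A chain-level retraction of `f`. -/
theorem exists_chain_retraction : ∃ g : A ⟶ A', f ≫ g = 𝟙 A' := by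
  obtain ⟨h, hh⟩ := exists_chain_section f p hf hp hfp
  have hh' : ∀ q x, (p.f q).hom ((h.f q).hom x) = x := fun q x =>
    congrArg (fun φ : A'' ⟶ A'' => (φ.f q).hom x) hh
  have hm : ∀ q a, a - (h.f q).hom ((p.f q).hom a) ∈ LinearMap.range (f.f q).hom := fun q a =>
    (hfp q _).1 (by rw [map_sub, hh', sub_self])
  let g : ∀ q, A.X q →ₗ[R] A'.X q := fun q =>
    (LinearEquiv.ofInjective (f.f q).hom (hf q)).symm.toLinearMap ∘ₗ
      LinearMap.codRestrict _ (LinearMap.id - (h.f q).hom ∘ₗ (p.f q).hom) (hm q)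
  have hg : ∀ q a, (f.f q).hom (g q a) = a - (h.f q).hom ((p.f q).hom a) := fun q a =>
    LinearEquiv.ofInjective_symm_apply (h := hf q) _ _
  refine ⟨{ f := fun q => ModuleCat.ofHom (g q)
            comm' := ?_ }, ?_⟩
  · rintro i j -
    ext x
    refine hf j ?_
    change (f.f j).hom ((A'.d i j).hom (g i x)) = (f.f j).hom (g j ((A.d i j).hom x))
    rw [← f_apply_d, hg, hg, map_sub, f_apply_d h, f_apply_d p]
  · ext q x
    refine hf q ?_
    change (f.f q).hom (g q ((f.f q).hom x)) = (f.f q).hom x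
    rw [hg, (hfp q).apply_apply_eq_zero, map_zero, sub_zero]

include hf hp hfp in
/-- Two chain maps out of `A` agreeing on `A'` are homotopic relative to `A'`. -/
theorem exists_homotopy_rel {B : ChainComplex (ModuleCat.{v} R) ℕ} (g₁ g₂ : A ⟶ B)
    (hg : f ≫ g₁ = f ≫ g₂) : ∃ H : Homotopy g₁ g₂, ∀ i j : ℕ, f.f i ≫ H.hom i j = 0 := by
  have h0 := surjective_d_of_quasiIso f p hp hfp
  have hex := exists_d_eq_of_quasiIso f p hf hp hfp
  let s := contract A'' h0 hex
  choose σ hσ using fun q => Module.projective_lifting_property (p.f q).hom LinearMap.id (hp q)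
  replace hσ : ∀ q x, (p.f q).hom (σ q x) = x := fun q x => LinearMap.congr_fun (hσ q) x
  have hgf : ∀ q a', (g₁.f q).hom ((f.f q).hom a') = (g₂.f q).hom ((f.f q).hom a') := fun q a' =>
    congrArg (fun φ : A' ⟶ B => (φ.f q).hom a') hg
  let φ : ∀ q, A''.X q →ₗ[R] B.X q := fun q => ((g₁.f q).hom - (g₂.f q).hom) ∘ₗ σ q
  have hφ : ∀ q a, φ q ((p.f q).hom a) = (g₁.f q).hom a - (g₂.f q).hom a := fun q a => by
    obtain ⟨a', ha'⟩ := (hfp q (σ q ((p.f q).hom a) - a)).1 (by rw [map_sub, hσ, sub_self])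
    rw [eq_sub_iff_add_eq] at ha'
    simp [φ, ← ha', hgf]
  have hφd : ∀ q c, φ q ((A''.d (q + 1) q).hom c) = (B.d (q + 1) q).hom (φ (q + 1) c) := fun q c => by
    obtain ⟨a, rfl⟩ := hp _ c
    rw [f_apply_d p, hφ, hφ, map_sub, f_apply_d g₁, f_apply_d g₂]
  let K : ∀ q, A.X q ⟶ B.X (q + 1) := fun q =>
    ModuleCat.ofHom (φ (q + 1) ∘ₗ s q ∘ₗ (p.f q).hom)
  let hom : ∀ i j, A.X i ⟶ B.X j := fun i j =>
    if hij : i + 1 = j then K i ≫ eqToHom (by rw [hij]) else 0
  have hom_eq : ∀ i, hom i (i + 1) = K i := fun i => by simp [hom]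
  refine ⟨{ hom := hom
            zero := fun i j hij => dif_neg hij
            comm := fun q => ?_ }, fun i j => ?_⟩
  · match q with
    | 0 =>
      rw [dNext_eq_zero _ _ (by simp), prevD_eq _ (show (ComplexShape.down ℕ).Rel 1 0 from rfl),
        zero_add, hom_eq]
      ext x
      change (g₁.f 0).hom x = (B.d 1 0).hom (φ 1 (s 0 ((p.f 0).hom x))) + (g₂.f 0).hom x
      rw [← hφd, contract_zero, hφ, sub_add_cancel]
    | q + 1 =>
      rw [dNext_eq _ (show (ComplexShape.down ℕ).Rel (q + 1) q from rfl),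
        prevD_eq _ (show (ComplexShape.down ℕ).Rel (q + 2) (q + 1) from rfl), hom_eq, hom_eq]
      ext x
      change (g₁.f (q + 1)).hom x = φ (q + 1) (s q ((p.f q).hom ((A.d (q + 1) q).hom x))) +
        (B.d (q + 2) (q + 1)).hom (φ (q + 2) (s (q + 1) ((p.f (q + 1)).hom x))) + (g₂.f (q + 1)).hom x
      rw [← f_apply_d p, ← hφd, ← map_add, add_comm (s q _), contract_succ, hφ, sub_add_cancel]
  · by_cases hij : i + 1 = j
    · subst hij
      change f.f i ≫ hom i (i + 1) = 0
      rw [hom_eq]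
      ext x
      change φ (i + 1) (s i ((p.f i).hom ((f.f i).hom x))) = 0
      rw [(hfp i).apply_apply_eq_zero, map_zero, map_zero]
    · simp [hom, dif_neg hij]

end ShortExact

section Quotient

variable {A' A : ChainComplex (ModuleCat.{v} R) ℕ} (f : A' ⟶ A)

/-- The degreewise quotient complex `A / f(A')`. -/
noncomputable def quotComplex : ChainComplex (ModuleCat.{v} R) ℕ where
  X q := ModuleCat.of R ((A.X q) ⧸ LinearMap.range (f.f q).hom)
  d i j := ModuleCat.ofHom ((LinearMap.range (f.f i).hom).mapQ (LinearMap.range (f.f j).hom)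
    (A.d i j).hom (by
      rintro _ ⟨x, rfl⟩
      exact ⟨(A'.d i j).hom x, (f_apply_d f i j x).symm⟩))
  shape i j hij := by
    ext x
    simp [A.shape i j hij]
  d_comp_d' i j k _ _ := by
    ext x
    change Submodule.Quotient.mk ((A.d j k).hom ((A.d i j).hom x)) = 0
    rw [d_apply_d, Submodule.Quotient.mk_zero]

/-- The projection to the quotient complex. -/
noncomputable def quotProj : A ⟶ quotComplex f where
  f q := ModuleCat.ofHom (LinearMap.range (f.f q).hom).mkQ
  comm' i j _ := by ext x; rfl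

lemma quotProj_surjective (q : ℕ) : Function.Surjective ((quotProj f).f q).hom :=
  Submodule.mkQ_surjective _

lemma quotProj_exact (q : ℕ) : Function.Exact (f.f q).hom ((quotProj f).f q).hom :=
  LinearMap.exact_map_mkQ_range _

end Quotient

end BiextChow

namespace BiextChow

universe w

/-- Transfer of freeness over `ℤ` across the (unique) `ℤ`-module structures. -/
theorem projective_quotComplex_int {A' A : ChainComplex (ModuleCat.{w} ℤ) ℕ} (f : A' ⟶ A)
    (hq : ∀ q, Module.Free ℤ ((A.X q) ⧸ LinearMap.range (f.f q).hom)) (q : ℕ) :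
    Module.Projective ℤ ((quotComplex f).X q) := by
  have h : Module.Projective ℤ ((A.X q) ⧸ LinearMap.range (f.f q).hom) := inferInstance
  have := h
  let e : ((A.X q) ⧸ LinearMap.range (f.f q).hom) ≃+ (quotComplex f).X q := AddEquiv.refl _
  exact Module.Projective.of_equiv
    ({ e with
       map_smul' := fun c x => map_zsmul e.toAddMonoidHom c x |>.trans (by
        simp only [RingHom.id_apply]; exact (Int.cast_smul_eq_zsmul ℤ c _).symm) } :
      ((A.X q) ⧸ LinearMap.range (f.f q).hom) ≃ₗ[ℤ] (quotComplex f).X q)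

end BiextChow
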