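import Mathlib.Algebra.Homology.ShortComplex.ModuleCat
import Mathlib.Algebra.Homology.ShortComplex.HomologicalComplex
import Mathlib.Algebra.Category.ModuleCat.EpiMono

/-!
Element-wise criteria for maps induced on homology of (short) complexes of modules.
-/

universe u v
open CategoryTheory

namespace BiextChow

variable {R : Type u} [Ring R] {S T : ShortComplex (ModuleCat.{v} R)}

lemma homologyπ_surjective (S : ShortComplex (ModuleCat.{v} R)) :
    Function.Surjective S.homologyπ.hom :=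
  (ModuleCat.epi_iff_surjective _).1 inferInstance

lemma iCycles_injective (S : ShortComplex (ModuleCat.{v} R)) :
    Function.Injective S.iCycles.hom :=
  (ModuleCat.mono_iff_injective _).1 inferInstance

lemma exists_cycle (x : S.X₂) (hx : S.g.hom x = 0) : ∃ c : S.cycles, S.iCycles.hom c = x := by
  refine ⟨S.moduleCatCyclesIso.inv.hom ⟨x, hx⟩, ?_⟩
  have := congrArg (fun φ => φ.hom ⟨x, hx⟩) S.moduleCatCyclesIso_inv_iCycles
  exact this

lemma g_iCycles (c : S.cycles) : S.g.hom (S.iCycles.hom c) = 0 := by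
  exact congrArg (fun φ => φ.hom c) S.iCycles_g

lemma homologyπ_eq_zero_iff (c : S.cycles) :
    S.homologyπ.hom c = 0 ↔ ∃ w, S.f.hom w = S.iCycles.hom c := by
  have hex : (ShortComplex.mk S.toCycles S.homologyπ S.toCycles_comp_homologyπ).Exact :=
    ShortComplex.exact_of_g_is_cokernel _ S.homologyIsCokernel
  have h1 : ∀ w, S.iCycles.hom (S.toCycles.hom w) = S.f.hom w := fun w => by
    exact congrArg (fun φ => φ.hom w) S.toCycles_i
  constructor
  · intro h
    obtain ⟨w, hw⟩ := (ShortComplex.moduleCat_exact_iff _).1 hex c h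
    exact ⟨w, by rw [← hw, h1]⟩
  · rintro ⟨w, hw⟩
    have hc : S.toCycles.hom w = c := iCycles_injective S (by rw [h1, hw])
    rw [← hc]
    exact congrArg (fun φ => φ.hom w) S.toCycles_comp_homologyπ

variable (φ : S ⟶ T)

lemma homologyMap_π (c : S.cycles) :
    (ShortComplex.homologyMap φ).hom (S.homologyπ.hom c) =
      T.homologyπ.hom ((ShortComplex.cyclesMap φ).hom c) := by
  exact congrArg (fun ψ => ψ.hom c) (ShortComplex.homologyπ_naturality φ)

lemma iCycles_cyclesMap (c : S.cycles) :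
    T.iCycles.hom ((ShortComplex.cyclesMap φ).hom c) = φ.τ₂.hom (S.iCycles.hom c) := by
  exact congrArg (fun ψ => ψ.hom c) (ShortComplex.cyclesMap_i φ)

/-- Injectivity on homology, element-wise. -/
lemma mono_homologyMap_iff :
    Mono (ShortComplex.homologyMap φ) ↔
      ∀ x, S.g.hom x = 0 → (∃ y, T.f.hom y = φ.τ₂.hom x) → ∃ w, S.f.hom w = x := by
  rw [ModuleCat.mono_iff_injective, injective_iff_map_eq_zero]
  constructor
  · rintro h x hx ⟨y, hy⟩
    obtain ⟨c, rfl⟩ := exists_cycle x hx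
    refine (homologyπ_eq_zero_iff c).1 (h _ ?_)
    rw [homologyMap_π, homologyπ_eq_zero_iff]
    exact ⟨y, by rw [iCycles_cyclesMap, hy]⟩
  · intro h z hz
    obtain ⟨c, rfl⟩ := homologyπ_surjective S z
    rw [homologyMap_π, homologyπ_eq_zero_iff] at hz
    obtain ⟨y, hy⟩ := hz
    rw [iCycles_cyclesMap] at hy
    exact (homologyπ_eq_zero_iff c).2 (h _ (g_iCycles c) ⟨y, hy⟩)

/-- Surjectivity on homology, element-wise. -/
lemma epi_homologyMap_iff :
    Epi (ShortComplex.homologyMap φ) ↔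
      ∀ y, T.g.hom y = 0 → ∃ x, S.g.hom x = 0 ∧ ∃ w, φ.τ₂.hom x + T.f.hom w = y := by
  rw [ModuleCat.epi_iff_surjective]
  constructor
  · intro h y hy
    obtain ⟨e, rfl⟩ := exists_cycle y hy
    obtain ⟨z, hz⟩ := h (T.homologyπ.hom e)
    obtain ⟨c, rfl⟩ := homologyπ_surjective S z
    rw [homologyMap_π] at hz
    obtain ⟨w, hw⟩ := (homologyπ_eq_zero_iff (e - (ShortComplex.cyclesMap φ).hom c)).1
      (by rw [map_sub, hz, sub_self])
    refine ⟨_, g_iCycles c, w, ?_⟩
    rw [hw, map_sub, iCycles_cyclesMap]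
    abel
  · intro h z
    obtain ⟨e, rfl⟩ := homologyπ_surjective T z
    obtain ⟨x, hx, w, hw⟩ := h _ (g_iCycles e)
    obtain ⟨c, rfl⟩ := exists_cycle x hx
    refine ⟨S.homologyπ.hom c, ?_⟩
    rw [homologyMap_π, eq_comm, ← sub_eq_zero, ← map_sub, homologyπ_eq_zero_iff]
    exact ⟨w, by rw [map_sub, iCycles_cyclesMap, ← hw]; abel⟩

section Chain

variable {C D : ChainComplex (ModuleCat.{v} R) ℕ} (f : C ⟶ D) (i j k : ℕ)

lemma mono_homologyMap_chain_iff (hi : (ComplexShape.down ℕ).prev j = i)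
    (hk : (ComplexShape.down ℕ).next j = k) :
    Mono (HomologicalComplex.homologyMap f j) ↔
      ∀ x, (C.d j k).hom x = 0 → (∃ y, (D.d i j).hom y = (f.f j).hom x) →
        ∃ w, (C.d i j).hom w = x := by
  subst hi hk
  exact mono_homologyMap_iff ((HomologicalComplex.shortComplexFunctor _ _ j).map f)

lemma epi_homologyMap_chain_iff (hi : (ComplexShape.down ℕ).prev j = i)
    (hk : (ComplexShape.down ℕ).next j = k) :
    Epi (HomologicalComplex.homologyMap f j) ↔
      ∀ y, (D.d j k).hom y = 0 → ∃ x, (C.d j k).hom x = 0 ∧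
        ∃ w, (f.f j).hom x + (D.d i j).hom w = y := by
  subst hi hk
  exact epi_homologyMap_iff ((HomologicalComplex.shortComplexFunctor _ _ j).map f)

lemma mono_homologyMap_zero_iff :
    Mono (HomologicalComplex.homologyMap f 0) ↔
      ∀ x, (∃ y, (D.d 1 0).hom y = (f.f 0).hom x) → ∃ w, (C.d 1 0).hom w = x := by
  rw [mono_homologyMap_chain_iff f 1 0 0 (by simp) (by simp)]
  constructor
  · intro h x hy
    exact h x (by simp) hy
  · intro h x _ hy
    exact h x hy

lemma epi_homologyMap_zero_iff :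
    Epi (HomologicalComplex.homologyMap f 0) ↔
      ∀ y, ∃ x w, (f.f 0).hom x + (D.d 1 0).hom w = y := by
  rw [epi_homologyMap_chain_iff f 1 0 0 (by simp) (by simp)]
  constructor
  · intro h y
    obtain ⟨x, -, w, hw⟩ := h y (by simp)
    exact ⟨x, w, hw⟩
  · intro h y _
    obtain ⟨x, w, hw⟩ := h y
    exact ⟨x, by simp, w, hw⟩

lemma mono_homologyMap_one_iff :
    Mono (HomologicalComplex.homologyMap f 1) ↔
      ∀ x, (C.d 1 0).hom x = 0 → (∃ y, (D.d 2 1).hom y = (f.f 1).hom x) →
        ∃ w, (C.d 2 1).hom w = x :=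
  mono_homologyMap_chain_iff f 2 1 0 (by simp) (by simp)

lemma epi_homologyMap_one_iff :
    Epi (HomologicalComplex.homologyMap f 1) ↔
      ∀ y, (D.d 1 0).hom y = 0 → ∃ x, (C.d 1 0).hom x = 0 ∧
        ∃ w, (f.f 1).hom x + (D.d 2 1).hom w = y :=
  epi_homologyMap_chain_iff f 2 1 0 (by simp) (by simp)

end Chain

end BiextChow
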