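import Groth.Agent.BiextChow.Contract
import Mathlib.Algebra.Homology.Monoidal
import Mathlib.Algebra.Category.ModuleCat.Monoidal.Basic
import Mathlib.Algebra.Category.ModuleCat.Monoidal.Closed
import Mathlib.Algebra.Category.ModuleCat.Colimits
import Mathlib.Algebra.Homology.QuasiIso
import Mathlib.RingTheory.Flat.Basic
import Mathlib.LinearAlgebra.TensorProduct.RightExactness

/-!
`H₁(C ⊗ P) ≅ H₁(C ⊗ G)` for a resolution `P → G` when `C₀` is flat.
-/

universe v
open CategoryTheory MonoidalCategory Limits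

namespace BiextChow

variable {R : Type v} [CommRing R]

section Span

variable (K L : ChainComplex (ModuleCat.{v} R) ℕ) (n : ℕ)

lemma tensor_mem_iSup_range (z : (K ⊗ L).X n) :
    z ∈ ⨆ x : {x : ℕ × ℕ // x.1 + x.2 = n},
      LinearMap.range (HomologicalComplex.ιTensorObj K L x.1.1 x.1.2 n x.2).hom := by
  let N : Submodule R ((K ⊗ L).X n) := ⨆ x : {x : ℕ × ℕ // x.1 + x.2 = n},
    LinearMap.range (HomologicalComplex.ιTensorObj K L x.1.1 x.1.2 n x.2).hom
  have h : ModuleCat.ofHom N.mkQ = 0 := by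
    refine HomologicalComplex.mapBifunctor.hom_ext (fun i j hij => ?_)
    ext u
    exact (Submodule.Quotient.mk_eq_zero _).2
      (Submodule.mem_iSup_of_mem ⟨(i, j), hij⟩ (LinearMap.mem_range_self _ u))
  exact (Submodule.Quotient.mk_eq_zero _).1 (congrArg (fun φ : _ ⟶ ModuleCat.of R _ => φ.hom z) h)

lemma tensor_exists_zero (z : (K ⊗ L).X 0) :
    ∃ u, (HomologicalComplex.ιTensorObj K L 0 0 0 rfl).hom u = z := by
  have hz := tensor_mem_iSup_range K L 0 z
  have hle : (⨆ x : {x : ℕ × ℕ // x.1 + x.2 = 0},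
      LinearMap.range (HomologicalComplex.ιTensorObj K L x.1.1 x.1.2 0 x.2).hom) ≤
      LinearMap.range (HomologicalComplex.ιTensorObj K L 0 0 0 rfl).hom := by
    refine iSup_le ?_
    rintro ⟨⟨i, j⟩, h⟩
    obtain ⟨rfl, rfl⟩ : i = 0 ∧ j = 0 := by constructor <;> (simp only at h; omega)
    exact le_rfl
  exact hle hz

lemma tensor_exists_one (z : (K ⊗ L).X 1) :
    ∃ a b, (HomologicalComplex.ιTensorObj K L 1 0 1 rfl).hom a +
      (HomologicalComplex.ιTensorObj K L 0 1 1 rfl).hom b = z := by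
  have hz := tensor_mem_iSup_range K L 1 z
  have hle : (⨆ x : {x : ℕ × ℕ // x.1 + x.2 = 1},
      LinearMap.range (HomologicalComplex.ιTensorObj K L x.1.1 x.1.2 1 x.2).hom) ≤
      LinearMap.range (HomologicalComplex.ιTensorObj K L 1 0 1 rfl).hom ⊔
        LinearMap.range (HomologicalComplex.ιTensorObj K L 0 1 1 rfl).hom := by
    refine iSup_le ?_
    rintro ⟨⟨i, j⟩, h⟩
    rcases (show (i = 1 ∧ j = 0) ∨ (i = 0 ∧ j = 1) by simp only at h; omega) with
      ⟨rfl, rfl⟩ | ⟨rfl, rfl⟩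
    · exact le_sup_left
    · exact le_sup_right
  obtain ⟨_, ⟨a, rfl⟩, _, ⟨b, rfl⟩, h⟩ := Submodule.mem_sup.1 (hle hz)
  exact ⟨a, b, h⟩

lemma ιTensor_zero_injective :
    Function.Injective (HomologicalComplex.ιTensorObj K L 0 0 0 rfl).hom := by
  let q : (K ⊗ L).X 0 ⟶ K.X 0 ⊗ L.X 0 :=
    HomologicalComplex.mapBifunctorDesc (fun i j (hij : i + j = 0) =>
      eqToHom (congrArg₂ (fun x y => K.X x ⊗ L.X y) (show i = 0 by omega) (show j = 0 by omega)))
  have hq : HomologicalComplex.ιTensorObj K L 0 0 0 rfl ≫ q = 𝟙 _ :=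
    (HomologicalComplex.ι_mapBifunctorDesc _ 0 0 rfl).trans (by simp)
  exact Function.LeftInverse.injective (g := q.hom) (fun u => congrArg (fun φ => φ.hom u) hq)

end Span

section Single

variable (K : ChainComplex (ModuleCat.{v} R) ℕ) (G : ModuleCat.{v} R) (n : ℕ)

lemma ιTensor_single_injective :
    Function.Injective (HomologicalComplex.ιTensorObj K
      ((ChainComplex.single₀ (ModuleCat.{v} R)).obj G) n 0 n (add_zero n)).hom := by
  let q : (K ⊗ (ChainComplex.single₀ (ModuleCat.{v} R)).obj G).X n ⟶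
      K.X n ⊗ ((ChainComplex.single₀ (ModuleCat.{v} R)).obj G).X 0 :=
    HomologicalComplex.mapBifunctorDesc (fun i j (hij : i + j = n) =>
      if hj : j = 0 then eqToHom (congrArg₂
        (fun x y => K.X x ⊗ ((ChainComplex.single₀ (ModuleCat.{v} R)).obj G).X y)
        (show i = n by omega) hj)
      else 0)
  have hq : HomologicalComplex.ιTensorObj K
      ((ChainComplex.single₀ (ModuleCat.{v} R)).obj G) n 0 n (add_zero n) ≫ q = 𝟙 _ :=
    (HomologicalComplex.ι_mapBifunctorDesc _ n 0 (add_zero n)).trans (by rw [dif_pos rfl]; rfl)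
  exact Function.LeftInverse.injective (g := q.hom) (fun u => congrArg (fun φ => φ.hom u) hq)

end Single

section Diff

variable (K L : ChainComplex (ModuleCat.{v} R) ℕ)

lemma ι_d_zero_succ (n : ℕ) :
    HomologicalComplex.ιTensorObj K L 0 (n + 1) (n + 1) (zero_add _) ≫ (K ⊗ L).d (n + 1) n =
      (K.X 0 ◁ L.d (n + 1) n) ≫ HomologicalComplex.ιTensorObj K L 0 n n (zero_add _) := by
  change _ ≫ (HomologicalComplex.mapBifunctor K L (curriedTensor _) (ComplexShape.down ℕ)).d _ _ = _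
  rw [HomologicalComplex.mapBifunctor.d_eq, Preadditive.comp_add,
    HomologicalComplex.mapBifunctor.ι_D₁, HomologicalComplex.mapBifunctor.ι_D₂,
    HomologicalComplex.mapBifunctor.d₁_eq_zero _ _ _ _ _ _ _ (by simp),
    HomologicalComplex.mapBifunctor.d₂_eq _ _ _ _ _ (show (ComplexShape.down ℕ).Rel (n + 1) n from rfl)
      _ (zero_add n)]
  simp

lemma ι_d_one_succ (n : ℕ) :
    HomologicalComplex.ιTensorObj K L 1 (n + 1) (n + 2) (by omega) ≫ (K ⊗ L).d (n + 2) (n + 1) =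
      (K.d 1 0 ▷ L.X (n + 1)) ≫ HomologicalComplex.ιTensorObj K L 0 (n + 1) (n + 1) (zero_add _) -
      (K.X 1 ◁ L.d (n + 1) n) ≫ HomologicalComplex.ιTensorObj K L 1 n (n + 1) (by omega) := by
  change _ ≫ (HomologicalComplex.mapBifunctor K L (curriedTensor _) (ComplexShape.down ℕ)).d _ _ = _
  rw [HomologicalComplex.mapBifunctor.d_eq, Preadditive.comp_add,
    HomologicalComplex.mapBifunctor.ι_D₁, HomologicalComplex.mapBifunctor.ι_D₂,
    HomologicalComplex.mapBifunctor.d₁_eq _ _ _ _ (show (ComplexShape.down ℕ).Rel 1 0 from rfl) _ _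
      (zero_add (n + 1)),
    HomologicalComplex.mapBifunctor.d₂_eq _ _ _ _ _ (show (ComplexShape.down ℕ).Rel (n + 1) n from rfl)
      _ (show 1 + n = n + 1 by omega)]
  simp [ComplexShape.ε₁, ComplexShape.ε₂, sub_eq_add_neg]

end Diff

section Map

variable (C : ChainComplex (ModuleCat.{v} R) ℕ) {P Q : ChainComplex (ModuleCat.{v} R) ℕ} (π : P ⟶ Q)

lemma ι_whiskerLeft (i j n : ℕ) (h : i + j = n) (u : (C.X i ⊗ P.X j : ModuleCat.{v} R)) :
    ((C ◁ π).f n).hom ((HomologicalComplex.ιTensorObj C P i j n h).hom u) =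
      (HomologicalComplex.ιTensorObj C Q i j n h).hom ((C.X i ◁ π.f j).hom u) := by
  have e : HomologicalComplex.ιTensorObj C P i j n h ≫ (C ◁ π).f n =
      (C.X i ◁ π.f j) ≫ HomologicalComplex.ιTensorObj C Q i j n h := by
    refine (HomologicalComplex.ι_mapBifunctorMap (𝟙 C) π (curriedTensor _)
      (ComplexShape.down ℕ) i j n h).trans ?_
    simp
  exact congrArg (fun φ => φ.hom u) e

end Map


open HomologicalComplex in
theorem isIso_homologyMap_one_whiskerLeft (C P : ChainComplex (ModuleCat.{v} R) ℕ)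
    (G : ModuleCat.{v} R) [Module.Flat R (C.X 0)]
    (π : P ⟶ (ChainComplex.single₀ (ModuleCat.{v} R)).obj G) [QuasiIso π] :
    IsIso (homologyMap (C ◁ π) 1) := by
  have hd : ∀ w, ((((ChainComplex.single₀ (ModuleCat.{v} R)).obj G)).d 1 0).hom w = 0 := fun w =>
    congrArg (fun φ => φ.hom w) (single_obj_d (ComplexShape.down ℕ) 0 G 1 0)
  have hπd : ∀ w, (π.f 0).hom ((P.d 1 0).hom w) = 0 := fun w => by
    rw [← f_apply_d π 1 0 w]; exact hd _
  have hs0 : Function.Surjective (π.f 0).hom := by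
    intro g
    obtain ⟨x, w, hw⟩ := (epi_homologyMap_zero_iff π).1 inferInstance g
    exact ⟨x, by rw [← hw, hd, add_zero]⟩
  have hex0 : Function.Exact (P.d 1 0).hom (π.f 0).hom := by
    intro x
    refine ⟨fun hx => ?_, fun ⟨w, hw⟩ => hw ▸ hπd w⟩
    exact (mono_homologyMap_zero_iff π).1 inferInstance x ⟨0, by rw [map_zero, hx]⟩
  have hS1 : IsZero (((ChainComplex.single₀ (ModuleCat.{v} R)).obj G).X 1) := isZero_single_obj_X _ 0 G 1 (by simp)
  have := ModuleCat.subsingleton_of_isZero hS1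
  have hex1 : Function.Exact (P.d 2 1).hom (P.d 1 0).hom := by
    intro x
    refine ⟨fun hx => ?_, fun ⟨w, hw⟩ => ?_⟩
    · exact (mono_homologyMap_one_iff π).1 inferInstance x hx ⟨0, Subsingleton.elim _ _⟩
    · rw [← hw]; exact congrArg (fun φ => φ.hom w) (P.d_comp_d 2 1 0)
  have key00 : ∀ i, Function.Exact (C.X i ◁ P.d 1 0).hom (C.X i ◁ π.f 0).hom := fun i =>
    lTensor_exact (C.X i) hex0 hs0
  have keysurj : ∀ i, Function.Surjective (C.X i ◁ π.f 0).hom := fun i =>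
    LinearMap.lTensor_surjective (C.X i) hs0
  have key01 : Function.Exact (C.X 0 ◁ P.d 2 1).hom (C.X 0 ◁ P.d 1 0).hom :=
    Module.Flat.lTensor_exact (C.X 0) hex1
  have hz01 : ∀ b, ((C ◁ π).f 1).hom ((ιTensorObj C P 0 1 1 rfl).hom b) = 0 := fun b => by
    rw [ι_whiskerLeft]
    have : Subsingleton ↑(C.X 0 ⊗ ((ChainComplex.single₀ (ModuleCat.{v} R)).obj G).X 1 : ModuleCat.{v} R) :=
      inferInstanceAs (Subsingleton (TensorProduct R (C.X 0) (((ChainComplex.single₀ (ModuleCat.{v} R)).obj G).X 1)))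
    rw [Subsingleton.elim ((C.X 0 ◁ π.f 1).hom b) 0, map_zero]
  -- the kernel in degree 0 consists of boundaries of kernel elements
  have K0 : ∀ z, ((C ◁ π).f 0).hom z = 0 →
      ∃ w, ((C ◁ π).f 1).hom w = 0 ∧ ((C ⊗ P).d 1 0).hom w = z := by
    intro z hz
    obtain ⟨u, rfl⟩ := tensor_exists_zero C P z
    rw [ι_whiskerLeft] at hz
    obtain ⟨b, rfl⟩ := (key00 0 u).1 (ιTensor_single_injective C G 0 (hz.trans (map_zero _).symm))
    exact ⟨_, hz01 b, congrArg (fun φ => φ.hom b) (ι_d_zero_succ C P 0)⟩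
  -- cycles in the kernel in degree 1 are boundaries
  have K1 : ∀ z, ((C ◁ π).f 1).hom z = 0 → ((C ⊗ P).d 1 0).hom z = 0 →
      ∃ w, ((C ⊗ P).d 2 1).hom w = z := by
    intro z hz hdz
    obtain ⟨a, b, rfl⟩ := tensor_exists_one C P z
    rw [map_add, hz01, add_zero, ι_whiskerLeft] at hz
    obtain ⟨v, rfl⟩ := (key00 1 a).1 (ιTensor_single_injective C G 1 (hz.trans (map_zero _).symm))
    have e : ((C ⊗ P).d 2 1).hom ((ιTensorObj C P 1 1 2 rfl).hom v) =
        (ιTensorObj C P 0 1 1 rfl).hom ((C.d 1 0 ▷ P.X 1).hom v) -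
          (ιTensorObj C P 1 0 1 rfl).hom ((C.X 1 ◁ P.d 1 0).hom v) :=
      congrArg (fun φ => φ.hom v) (ι_d_one_succ C P 0)
    have e0 : ∀ b, ((C ⊗ P).d 1 0).hom ((ιTensorObj C P 0 1 1 rfl).hom b) =
        (ιTensorObj C P 0 0 0 rfl).hom ((C.X 0 ◁ P.d 1 0).hom b) :=
      fun b => congrArg (fun φ => φ.hom b) (ι_d_zero_succ C P 0)
    have e1 : ∀ c, ((C ⊗ P).d 2 1).hom ((ιTensorObj C P 0 2 2 rfl).hom c) =
        (ιTensorObj C P 0 1 1 rfl).hom ((C.X 0 ◁ P.d 2 1).hom c) :=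
      fun c => congrArg (fun φ => φ.hom c) (ι_d_zero_succ C P 1)
    have hb : (C.X 0 ◁ P.d 1 0).hom (b + (C.d 1 0 ▷ P.X 1).hom v) = 0 := by
      apply ιTensor_zero_injective C P
      rw [map_zero, ← e0]
      have : ((C ⊗ P).d 1 0).hom (((C ⊗ P).d 2 1).hom ((ιTensorObj C P 1 1 2 rfl).hom v)) = 0 :=
        d_apply_d (C ⊗ P) 2 1 0 _
      rw [e, map_sub, sub_eq_zero] at this
      rw [map_add, map_add, this, ← map_add, add_comm, hdz]
    obtain ⟨c, hc⟩ := (key01 _).1 hb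
    refine ⟨(ιTensorObj C P 0 2 2 rfl).hom c - (ιTensorObj C P 1 1 2 rfl).hom v, ?_⟩
    rw [map_sub, e1, e, hc, map_add]
    abel
  have surj : ∀ n, Function.Surjective ((C ◁ π).f n).hom := by
    intro n y
    refine LinearMap.mem_range.1 ((iSup_le ?_ : (⨆ x : {x : ℕ × ℕ // x.1 + x.2 = n},
      LinearMap.range (ιTensorObj C ((ChainComplex.single₀ (ModuleCat.{v} R)).obj G) x.1.1 x.1.2 n x.2).hom) ≤ LinearMap.range ((C ◁ π).f n).hom)
      (tensor_mem_iSup_range C ((ChainComplex.single₀ (ModuleCat.{v} R)).obj G) n y))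
    rintro ⟨⟨i, j⟩, h⟩ _ ⟨u, rfl⟩
    match j, h with
    | 0, h =>
      obtain ⟨u', rfl⟩ := keysurj i u
      exact ⟨_, ι_whiskerLeft C π i 0 n h u'⟩
    | j + 1, h =>
      have := ModuleCat.subsingleton_of_isZero
        (isZero_single_obj_X (ComplexShape.down ℕ) 0 G (j + 1) (by simp))
      have : Subsingleton ↑(C.X i ⊗ ((ChainComplex.single₀ (ModuleCat.{v} R)).obj G).X (j + 1) : ModuleCat.{v} R) :=
        inferInstanceAs (Subsingleton (TensorProduct R (C.X i) (((ChainComplex.single₀ (ModuleCat.{v} R)).obj G).X (j + 1))))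
      rw [Subsingleton.elim u 0, map_zero]
      exact Submodule.zero_mem _
  have hmono : Mono (homologyMap (C ◁ π) 1) := by
    rw [mono_homologyMap_one_iff]
    rintro x hx ⟨y, hy⟩
    obtain ⟨w, hw⟩ := surj 2 y
    have h1 : ((C ◁ π).f 1).hom (x - ((C ⊗ P).d 2 1).hom w) = 0 := by
      rw [map_sub, ← f_apply_d, hw, hy, sub_self]
    obtain ⟨w', hw'⟩ := K1 _ h1 (by rw [map_sub, hx, d_apply_d, sub_self])
    exact ⟨w' + w, by rw [map_add, hw', sub_add_cancel]⟩
  have hepi : Epi (homologyMap (C ◁ π) 1) := by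
    rw [epi_homologyMap_one_iff]
    intro y hy
    obtain ⟨x, rfl⟩ := surj 1 y
    rw [f_apply_d] at hy
    obtain ⟨w, hw, hdw⟩ := K0 _ hy
    exact ⟨x - w, by rw [map_sub, hdw, sub_self], 0, by rw [map_sub, hw, sub_zero, map_zero, add_zero]⟩
  exact isIso_of_mono_of_epi _

end BiextChow
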